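import Groth.Agent.L12.KBun.PushF
import Groth.Agent.L12.KBun.PushTw
import Groth.Agent.L12.IntSh.Euler
import Groth.Agent.L22.Inter.Cons
import Groth.Agent.L22.Inter.PushProper
import Groth.Agent.L22.Nef.Proper
import Groth.Agent.L08.Lambda.Pos
import Groth.Agent.L16.CohClosedPush
import Groth.Agent.L29.DCoh.TensorPerfect

/-!
# Euler characteristics on `K`: mixed differences and projective bundles
-/

set_option autoImplicit false
set_option maxHeartbeats 400000
set_option linter.style.haveILetI false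
set_option linter.unusedSectionVars false
set_option backward.isDefEq.respectTransparency false
set_option backward.isDefEq.respectTransparency.types false

universe v u

open CategoryTheory CategoryTheory.Limits AlgebraicGeometry LambdaRing

attribute [local instance] HasDerivedCategory.standard
attribute [local irreducible] Curv2.euler

noncomputable section

namespace Groth.L12.IntSh.Pos

open Groth.L22.Inter (altT alt alt_apply sgn)
open Groth.L00.Tensor (tensorIso tensorUnitRight tensorAssoc tensorComm tensorUnitLeft)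

variable (k : Type u) [Field k] {X : Scheme.{u}} [X.Over (Spec (CommRingCat.of k))]
  {K : Type v} [CommRing K] [LambdaOps K] {PK : PosStructure K} {φ : SGA6.Kvb X →+ K}

/-- `altT` of a line module is the Euler characteristic of `[M]([L] - 1)^D`. -/
theorem altT_eq (hK : _root_.KRR.IsModel X K PK φ) {θ : K →+ ℤ}
    (hθ : ∀ M : X.Modules, FlatMod.IsFinLocFree M → θ (φ (_root_.KRR.cl X M)) = Curv2.euler k X M)
    {L : X.Modules} (hL : PicF.IsInvertible L) : ∀ (D : ℕ) (M : X.Modules), FlatMod.IsFinLocFree M →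
      altT k (fun _ : Fin D => L) M =
        ((θ (φ (_root_.KRR.cl X M) * (φ (_root_.KRR.cl X L) - 1) ^ D) : ℤ) : ℚ)
  | 0, M, hM => by
    rw [pow_zero, mul_one, hθ M hM]
    change alt (Groth.L03.Euler.twEuler k (fun _ : Fin 0 => L) M) = _
    simp only [alt_apply, Fintype.sum_unique, sgn, Finset.univ_eq_empty, Finset.prod_empty, one_mul]
    exact congrArg (Int.cast : ℤ → ℚ) (Groth.L03.Euler.euler_iso (tensorUnitRight M))
  | D + 1, M, hM => by
    have hLv := Groth.L16.Existence.isFinLocFree_of_isInvertible hL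
    have hML := Groth.L29.DC.isFinLocFree_tensor hM hLv
    rw [Groth.L22.Inter.altT_succ, altT_eq hK hθ hL D _ hML, altT_eq hK hθ hL D M hM, ← Int.cast_sub, ← map_sub,
      show φ (_root_.KRR.cl X (CohB1.tensorMod M L)) = φ (_root_.KRR.cl X M) * φ (_root_.KRR.cl X L) from
        (hK.map_mul M L hM hLv).symm]
    congr 2
    ring

/-- The top power of `1 - [L⁻¹]` is a nonnegative number for a nef `L`. -/
theorem nonneg_delta_pow [IsProper (X ↘ Spec (CommRingCat.of k))] (hK : _root_.KRR.IsModel X K PK φ) {θ : K →+ ℤ}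
    (hθ : ∀ M : X.Modules, FlatMod.IsFinLocFree M → θ (φ (_root_.KRR.cl X M)) = Curv2.euler k X M)
    {L M : X.Modules} (hL : Groth.L22.Nef.IsNef k L) (hM : PicF.IsInvertible M) (hLM : ClSub.IsInverseOf L M)
    {D : ℕ} (hD : topologicalKrullDim X ≤ (D : WithBot ℕ∞)) (hbot : gammaFiltration PK (D + 1) = ⊥) :
    0 ≤ θ ((1 - φ (_root_.KRR.cl X M)) ^ D) := by
  haveI := Groth.L21.RR.isNoetherian_of_proper (X := X) k
  have h1 := altT_eq k hK hθ hL.1 D _ Groth.L12.Kvb.isFinLocFree_O
  have hpos := Groth.L22.Nef.altT_nonneg_proper (k := k) (L := fun _ : Fin D => L) (fun _ => hL)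
    (Groth.L16.CohClosedPush.isCoh_structure (X := X))
    ((topologicalKrullDim_subspace_le X (CohB1.support (Coh.structureModule X))).trans hD)
  rw [h1, Int.cast_nonneg_iff, hK.map_one, one_mul] at hpos
  set ℓ := φ (_root_.KRR.cl X L)
  set u := φ (_root_.KRR.cl X M)
  have hLv := Groth.L16.Existence.isFinLocFree_of_isInvertible hL.1
  have hMv := Groth.L16.Existence.isFinLocFree_of_isInvertible hM
  obtain ⟨⟨e⟩⟩ := (show Nonempty (Nonempty (CohB1.tensorMod L M ≅ Coh.structureModule X)) from ⟨hLM⟩)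
  have hlu : ℓ * u = 1 := (hK.map_mul L M hLv hMv).trans
    ((congrArg φ (Groth.L12.Kvb.cl_iso e (Groth.L29.DC.isFinLocFree_tensor hLv hMv))).trans hK.map_one)
  have hal : PK.aug ℓ = 1 := by
    exact_mod_cast hK.aug_cl 1 _ (Groth.L18.KRRAmple.isRankOne_of_isInvertible hL.1)
  have hau : PK.aug u = 1 := by
    exact_mod_cast hK.aug_cl 1 _ (Groth.L18.KRRAmple.isRankOne_of_isInvertible hM)
  have hz : (ℓ ^ D - 1) * (1 - u) ^ D = 0 := by
    rw [← AddSubgroup.mem_bot, ← hbot]
    have := Groth.L08.Lambda.prod_mem_gammaFiltration PK ((1, ℓ ^ D - 1) :: List.replicate D (1, 1 - u)) (by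
      intro p hp
      rcases List.mem_cons.1 hp with rfl | hp
      · rw [map_sub, map_pow, hal, one_pow, map_one, sub_self]
      · rw [(List.mem_replicate.1 hp).2, map_sub, hau, map_one, sub_self]) (D + 1) (by simp [add_comm])
    simpa [Groth.L08.Lambda.gamma_one] using this
  rw [show (ℓ - 1) ^ D = (1 - u) ^ D by
    rw [sub_mul, one_mul, sub_eq_zero] at hz
    rw [← hz, ← mul_pow, mul_sub, mul_one, hlu]] at hpos
  exact hpos

/-- Euler characteristics on a projective bundle factor through `π_*`. -/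
theorem euler_pushF {S P : Scheme.{u}} [IsNoetherian S] [ConnectedSpace S] [ConnectedSpace P] [S.IsSeparated]
    [S.Over (Spec (CommRingCat.of k))] [P.Over (Spec (CommRingCat.of k))] {π : P ⟶ S}
    (hπk : π ≫ S ↘ Spec (CommRingCat.of k) = P ↘ Spec (CommRingCat.of k)) {O1 L : P.Modules} {r : ℕ}
    {E : S.Modules} {q : (Scheme.Modules.pullback π).obj E ⟶ O1}
    {KS : Type v} [CommRing KS] [LambdaOps KS] {PS : PosStructure KS} {φS : SGA6.Kvb S →+ KS}
    {KP : Type v} [CommRing KP] [LambdaOps KP] {PP : PosStructure KP} {φP : SGA6.Kvb P →+ KP} {g : KS →+ KP}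
    (D : Groth.L12.KBun.Data π q L r PS φS PP φP g) (A : Groth.L12.KBun.Atlas π O1 r) [HasInjectiveResolutions P.Modules]
    [Coh.IsQCoh E] [Coh.IsQCoh (Groth.L12.KBun.tautSC q).X₁] [Coh.IsQCoh O1] {gF : KP →+ KS}
    (hT : D.TwF gF) {θS : KS →+ ℤ} {θP : KP →+ ℤ}
    (hS : ∀ M : S.Modules, FlatMod.IsFinLocFree M → θS (φS (_root_.KRR.cl S M)) = Curv2.euler k S M)
    (hP : ∀ M : P.Modules, FlatMod.IsFinLocFree M → θP (φP (_root_.KRR.cl P M)) = Curv2.euler k P M) (x : KP) :
    θP x = θS (gF x) := by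
  haveI := A.isProper
  have good : ∀ M : P.Modules, Groth.L12.KBun.Good A M →
      θP (φP (_root_.KRR.cl P M)) = θS (Groth.L12.KBun.pcl π φS M) := by
    intro M hM
    haveI := Groth.L29.DC.PCQCoh.isQCoh_of_isFinLocFree hM.1
    rw [hP M hM.1, show Groth.L12.KBun.pcl π φS M =
      φS (_root_.KRR.cl S ((Scheme.Modules.pushforward π).obj M)) from rfl, hS _ hM.vb_push]
    refine (Groth.L22.Inter.euler_push_of_acyclic k π hπk M fun p => ?_).symm
    obtain ⟨i⟩ := Groth.L17.nonempty_toAb_Rpush_iso π M (p + 1)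
    have hz : IsZero ((Groth.L17.toAbShF S).obj ((Coh.Rpush π (p + 1)).obj M)) :=
      ((Groth.L12.KBun.cv_zero_iff A (p + 1)).2 (hM.2 _ (Nat.succ_pos p))).of_iso i
    rw [IsZero.iff_id_eq_zero] at hz ⊢
    apply (Groth.L17.toAbShF S).map_injective
    rw [CategoryTheory.Functor.map_id, Functor.map_zero, hz]
  obtain ⟨b, rfl⟩ := D.surjective_comb A x
  rw [D.comb_apply, map_sum, map_sum, map_sum]
  refine Finset.sum_congr rfl fun i _ => ?_
  have hp : φP (_root_.KRR.cl P O1) ^ (i : ℕ) = φP (_root_.KRR.cl P (Groth.L12.KBun.tw O1 L ((i : ℕ) : ℤ))) := by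
    rw [Groth.L12.KBun.tw_natCast]
    induction (i : ℕ) with
    | zero => rw [pow_zero]; exact D.hKP.map_one.symm
    | succ j ih =>
      have hv := Groth.L16.Existence.isFinLocFree_of_isInvertible (Groth.L18.Ample.isInvertible_tensorPow D.hO j)
      rw [pow_succ, ih, D.hKP.map_mul _ _ hv (Groth.L18.KRRAmple.isFinLocFree_of_rank D.hPB.invertible)]
      rfl
  rw [hp]
  obtain ⟨N₁, N₂, h₁, h₂, e⟩ := Groth.L12.KRR.exists_sub_cl D.hKS (b i)
  rw [e]
  have key : ∀ N : S.Modules, FlatMod.IsFinLocFree N →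
      θP (g (φS (_root_.KRR.cl S N)) * φP (_root_.KRR.cl P (Groth.L12.KBun.tw O1 L ((i : ℕ) : ℤ)))) =
        θS (gF (g (φS (_root_.KRR.cl S N)) * φP (_root_.KRR.cl P (Groth.L12.KBun.tw O1 L ((i : ℕ) : ℤ))))) := by
    intro N hN
    rw [hT _ (by omega), D.hg N hN, D.hKP.map_mul _ _ (Groth.L29.LocFree.pullback π hN) (D.good_O A (by omega)).1]
    refine (good _ (D.good_pull A hN (by omega))).trans (congrArg θS ?_)
    exact Groth.L12.KBun.pcl_pull_tensor A φS D.hKS hN (D.good_O A (by omega))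
  rw [map_sub, sub_mul, map_sub, map_sub, map_sub, key N₁ h₁, key N₂ h₂]

end Groth.L12.IntSh.Pos
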