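import Groth.Agent.L12.IntSh.Pos.Top
import Groth.Agent.L22.Inter.PullNum
import Groth.Agent.L16.SchSupport
import Groth.Agent.L18.Grass.MapEpi

/-!
# `χ(N ⊗ γ^d(E - (d+1))) ≥ 0` for a generated bundle `E`
-/

set_option autoImplicit false
set_option maxHeartbeats 800000
set_option linter.style.haveILetI false
set_option linter.unusedSectionVars false
set_option backward.isDefEq.respectTransparency false
set_option backward.isDefEq.respectTransparency.types false

universe v u

open CategoryTheory CategoryTheory.Limits AlgebraicGeometry LambdaRing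

attribute [local instance] HasDerivedCategory.standard
attribute [local irreducible] Curv2.euler

noncomputable section

namespace Groth.L12.IntSh.Pos

open Groth.L00.Tensor (tensorIso tensorComm tensorLeftF tensorUnitRight)

variable (k : Type u) [Field k] {W X : Scheme.{u}} [W.Over (Spec (CommRingCat.of k))]
  [IsProper (W ↘ Spec (CommRingCat.of k))] [IsNoetherian W]

theorem le_of_add_one_le {t : WithBot ℕ∞} {d : ℕ} (h : t + 1 ≤ ((d + 1 : ℕ) : WithBot ℕ∞)) :
    t ≤ (d : WithBot ℕ∞) := by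
  induction t using WithBot.recBotCoe with
  | bot => exact bot_le
  | coe a =>
    change ((a + 1 : ℕ∞) : WithBot ℕ∞) ≤ (((d + 1 : ℕ) : ℕ∞) : WithBot ℕ∞) at h
    rw [WithBot.coe_le_coe, Nat.cast_succ] at h
    exact WithBot.coe_le_coe.2 ((ENat.add_le_add_iff_right (by simp)).1 h)

/-- The positivity statement for one coherent module. -/
def PairNonneg (j : W ⟶ X) (a : SGA6.Kvb X) (N : W.Modules) : Prop :=
  ∀ ψ : SGA6.Kvb X →+ ℤ, (∀ E : X.Modules, FlatMod.IsFinLocFree E →
    ψ (_root_.KRR.cl X E) = Curv2.euler k W (CohB1.tensorMod N ((Scheme.Modules.pullback j).obj E))) → 0 ≤ ψ a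

/-- A module pushed forward along a closed immersion. -/
theorem euler_pushed {Z : Scheme.{u}} [IsNoetherian Z] [Z.Over (Spec (CommRingCat.of k))]
    [IsProper (Z ↘ Spec (CommRingCat.of k))] (i : Z ⟶ W) [IsClosedImmersion i]
    (hi : i ≫ W ↘ Spec (CommRingCat.of k) = Z ↘ Spec (CommRingCat.of k)) (j : W ⟶ X) {M : Z.Modules}
    (hM : Coh.IsCoh M) {E : X.Modules} (hE : FlatMod.IsFinLocFree E) :
    Curv2.euler k W (CohB1.tensorMod ((Coh.push i).obj M) ((Scheme.Modules.pullback j).obj E)) =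
      Curv2.euler k Z (CohB1.tensorMod M ((Scheme.Modules.pullback (i ≫ j)).obj E)) := by
  haveI : W.IsSeparated := ⟨by
    rw [Subsingleton.elim (terminal.from W) ((W ↘ Spec (CommRingCat.of k)) ≫ terminal.from _)]
    infer_instance⟩
  have hF := Groth.L29.LocFree.pullback j hE
  haveI := Groth.L17.ProjFormula.isIso_θ i ((Scheme.Modules.pullback j).obj E) M hF
  rw [Groth.L03.Euler.euler_iso (tensorComm _ _ ≪≫
    asIso (Groth.L17.ClosedPush.θ i M ((Scheme.Modules.pullback j).obj E)))]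
  have hc : Coh.IsCoh (CohB1.tensorMod ((Scheme.Modules.pullback i).obj ((Scheme.Modules.pullback j).obj E)) M) :=
    Groth.L15.Ref.isCoh_tensorMod (Groth.L16.NegPow.isCoh_of_isFinLocFree (Groth.L29.LocFree.pullback i hF)) hM
  refine (Groth.L03.Euler.euler_push i _ hc.1 hi).trans (Groth.L03.Euler.euler_iso ?_)
  exact tensorComm _ _ ≪≫ tensorIso (Iso.refl M) ((Scheme.Modules.pullbackComp i j).app E)

variable [IsNoetherian X] [ConnectedSpace X]

/-- Modules with small support pair to zero. -/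
theorem pair_eq_zero_of_small {L : W.Modules} (hL : CohB1.IsAmple L) {M : W.Modules} (hM : Coh.IsCoh M) {d : ℕ}
    (hd : topologicalKrullDim (CohB1.support M) ≤ (d : WithBot ℕ∞)) (j : W ⟶ X) (a : SGA6.Kvb X)
    (ha : Groth.L12.Kvb.toKR X a ∈ gammaFiltration (Groth.L12.Kvb.posStructure (X := X)) (d + 1))
    (ψ : SGA6.Kvb X →+ ℤ) (hψ : ∀ E : X.Modules, FlatMod.IsFinLocFree E →
      ψ (_root_.KRR.cl X E) = Curv2.euler k W (CohB1.tensorMod M ((Scheme.Modules.pullback j).obj E))) :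
    ψ a = 0 := by
  let J := Groth.L16.SchSupport.annIdeal hM
  haveI := Groth.L16.SchSupport.isIso_unit_annIdeal hM
  let i := J.subschemeι
  letI : J.subscheme.Over (Spec (CommRingCat.of k)) := ⟨i ≫ W ↘ Spec (CommRingCat.of k)⟩
  haveI : IsProper (J.subscheme ↘ Spec (CommRingCat.of k)) :=
    inferInstanceAs (IsProper (i ≫ W ↘ Spec (CommRingCat.of k)))
  haveI := Groth.L21.RR.isNoetherian_of_proper (X := J.subscheme) k
  have hdim : topologicalKrullDim J.subscheme ≤ (d : WithBot ℕ∞) := by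
    let t : J.subscheme → ↥(CohB1.support M) := fun z => ⟨i z, by
      rw [← Groth.L16.SchSupport.coe_support_annIdeal hM, ← Scheme.IdealSheafData.range_subschemeι]
      exact ⟨z, rfl⟩⟩
    have hind : Topology.IsInducing t :=
      Topology.IsInducing.of_comp (by fun_prop) continuous_subtype_val i.isClosedEmbedding.isInducing
    exact hind.topologicalKrullDim_le.trans hd
  have hN := Groth.L16.AffineBC.isCoh_pullback i hM
  have hL' := Groth.L18.Ample.isAmple_pullback_of_isAffineHom (u := i) hL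
  refine pairZero k hL' hdim (i ≫ j) a ha hN ψ fun E hE => (hψ E hE).trans ?_
  rw [← euler_pushed k i rfl j hN hE]
  exact Groth.L03.Euler.euler_iso
    (tensorIso (asIso ((Scheme.Modules.pullbackPushforwardAdjunction i).unit.app M)) (Iso.refl _))

/-- The integral case. -/
theorem pairNonneg_integral {L : W.Modules} (hL : CohB1.IsAmple L) {d : ℕ}
    (hd : topologicalKrullDim W ≤ ((d + 1 : ℕ) : WithBot ℕ∞)) (j : W ⟶ X) {E : X.Modules}
    (hE : FlatMod.IsFinLocFreeOfRank (d + 1 + 1) E) {N : ℕ}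
    (q : FlatMod.freeMod W N ⟶ (Scheme.Modules.pullback j).obj E) [Epi q] (a : SGA6.Kvb X)
    (ha : Groth.L12.Kvb.toKR X a =
      gamma (d + 1) (Groth.L12.Kvb.toKR X (_root_.KRR.cl X E) - ((d + 1 + 1 : ℕ) : Groth.L12.Kvb.KR X)))
    {Z : Scheme.{u}} [IsIntegral Z] (i : Z ⟶ W) [IsClosedImmersion i] {I : Z.Modules} [Coh.IsQCoh I]
    (ι : I ⟶ Coh.structureModule Z) [Mono ι] : PairNonneg k j a ((Coh.push i).obj I) := by
  haveI : IsLocallyNoetherian Z := LocallyOfFiniteType.isLocallyNoetherian i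
  haveI : CompactSpace Z := QuasiCompact.compactSpace_of_compactSpace i
  haveI : IsNoetherian Z := {}
  letI : Z.Over (Spec (CommRingCat.of k)) := ⟨i ≫ W ↘ Spec (CommRingCat.of k)⟩
  haveI : IsProper (Z ↘ Spec (CommRingCat.of k)) :=
    inferInstanceAs (IsProper (i ≫ W ↘ Spec (CommRingCat.of k)))
  haveI : ConnectedSpace Z := inferInstance
  have hO : Coh.IsCoh (Coh.structureModule Z) := Groth.L16.CohClosedPush.isCoh_structure
  have hI : Coh.IsCoh I := Groth.L16.Rees.RelVanish.isCoh_of_mono ι hO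
  have hdZ : topologicalKrullDim Z ≤ ((d + 1 : ℕ) : WithBot ℕ∞) :=
    i.isClosedEmbedding.isInducing.topologicalKrullDim_le.trans hd
  have hLZ := Groth.L18.Ample.isAmple_pullback_of_isAffineHom (u := i) hL
  have hKX := Groth.L12.Kvb.isModel (X := X)
  have hKZ := Groth.L12.Kvb.isModel (X := Z)
  have hEv := Groth.L18.KRRAmple.isFinLocFree_of_rank hE
  have hmem : Groth.L12.Kvb.toKR X a ∈ gammaFiltration (Groth.L12.Kvb.posStructure (X := X)) (d + 1) := by
    rw [ha]
    refine gamma_mem _ ?_ _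
    rw [map_sub, hKX.aug_cl _ _ hE, map_natCast, sub_self]
  have small : ∀ M : Z.Modules, Coh.IsCoh M → genericPoint Z ∉ CohB1.support M → ∀ θ : SGA6.Kvb X →+ ℤ,
      (∀ G : X.Modules, FlatMod.IsFinLocFree G →
        θ (_root_.KRR.cl X G) = Curv2.euler k Z (CohB1.tensorMod M ((Scheme.Modules.pullback (i ≫ j)).obj G))) →
      θ a = 0 := by
    intro M hM hη θ hθ
    refine pair_eq_zero_of_small k hLZ hM ?_ (i ≫ j) a hmem θ hθ
    have h1 := Groth.L03.Euler.topologicalKrullDim_add_one_le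
      (Groth.L16.CohSupport.isClosed_support M hM.2) (IrreducibleSpace.isIrreducible_univ Z) (Set.subset_univ _)
      (fun h => hη (h ▸ Set.mem_univ _))
    rw [IsHomeomorph.topologicalKrullDim_eq _ (Homeomorph.Set.univ Z).isHomeomorph] at h1
    exact le_of_add_one_le (h1.trans hdZ)
  intro ψ hψ
  have hψ' : ∀ G : X.Modules, FlatMod.IsFinLocFree G →
      ψ (_root_.KRR.cl X G) = Curv2.euler k Z (CohB1.tensorMod I ((Scheme.Modules.pullback (i ≫ j)).obj G)) :=
    fun G hG => (hψ G hG).trans (euler_pushed k i rfl j hI hG)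
  by_cases hη : genericPoint Z ∈ CohB1.support I
  swap
  · exact (small I hI hη ψ hψ').ge
  let S : ShortComplex Z.Modules := ShortComplex.mk ι (cokernel.π ι) (cokernel.condition ι)
  have hS : S.ShortExact := { exact := ShortComplex.exact_cokernel ι }
  haveI : Coh.IsQCoh (Coh.structureModule Z) := hO.1
  have hQ : Coh.IsCoh (cokernel ι) := (Groth.L16.CohKernel.isCoh_kernel_cokernel hI hO ι).2
  have hQη : genericPoint Z ∉ CohB1.support (cokernel ι) := by
    rw [← Groth.L16.CohSupport.len_eq_zero_iff]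
    have h1 := Groth.L16.CohSupport.len_add hS (genericPoint Z)
    rw [show S.X₂ = Coh.structureModule Z from rfl, Groth.L22.Inter.len_structure] at h1
    have h2 : Groth.L16.CohSupport.len (genericPoint Z) I ≠ 0 := fun h => (Groth.L16.CohSupport.len_eq_zero_iff _ _).1 h hη
    by_contra h3
    have h4 : (1 : ℕ∞) + 1 ≤ 1 := by
      conv_rhs => rw [h1]
      exact add_le_add (Order.one_le_iff_ne_zero.2 h2) (Order.one_le_iff_ne_zero.2 h3)
    norm_num at h4
  obtain ⟨ψO, eO⟩ := exists_pairing k (i ≫ j) hO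
  obtain ⟨ψQ, eQ⟩ := exists_pairing k (i ≫ j) hQ
  have hadd : ψO = ψ + ψQ := Groth.L29.KSub.hom_ext fun G hG => by
    change ψO (_root_.KRR.cl X G) = ψ (_root_.KRR.cl X G) + ψQ (_root_.KRR.cl X G)
    rw [eO G hG, hψ' G hG, eQ G hG]
    have hp := Groth.L29.LocFree.pullback (i ≫ j) hG
    obtain ⟨w, h⟩ := shortExact_tensor_flat (Groth.L29.DC.isFlat_of_isFinLocFree hp) hS
    have hc : ∀ M : Z.Modules, Coh.IsCoh M → Coh.IsCoh (CohB1.tensorMod ((Scheme.Modules.pullback (i ≫ j)).obj G) M) :=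
      fun M hM => Groth.L15.Ref.isCoh_tensorMod (Groth.L16.NegPow.isCoh_of_isFinLocFree hp) hM
    rw [Groth.L03.Euler.euler_iso (tensorComm (Coh.structureModule Z) _),
      Groth.L03.Euler.euler_iso (tensorComm I _), Groth.L03.Euler.euler_iso (tensorComm (cokernel ι) _)]
    exact Groth.L03.Euler.euler_add (k := k) h (hc _ hI) (hc _ hO) (hc _ hQ)
  rw [show ψ a = ψO a from by rw [hadd, AddMonoidHom.add_apply, small _ hQ hQη ψQ eQ, add_zero]]
  obtain ⟨g, hg⟩ := Groth.L12.KRR.exists_isPull (i ≫ j) (φX := Groth.L12.Kvb.toKR Z) hKX.bijective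
  obtain ⟨θ₀, hθ₀⟩ := exists_pairing k (𝟙 Z) hO
  let θ : Groth.L12.Kvb.KR Z →+ ℤ := θ₀.comp (AddEquiv.ofBijective _ hKZ.bijective).symm.toAddMonoidHom
  have hθ : ∀ M : Z.Modules, FlatMod.IsFinLocFree M →
      θ (Groth.L12.Kvb.toKR Z (_root_.KRR.cl Z M)) = Curv2.euler k Z M := fun M hM => by
    refine ((congrArg θ₀ ((AddEquiv.ofBijective _ hKZ.bijective).symm_apply_apply _)).trans (hθ₀ M hM)).trans ?_
    exact Groth.L03.Euler.euler_iso (Groth.L00.Tensor.tensorUnitLeft _ ≪≫ (Scheme.Modules.pullbackId Z).app M)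
  have key : ψO = θ.comp (g.comp (Groth.L12.Kvb.toKR X)) := Groth.L29.KSub.hom_ext fun G hG => by
    change ψO (_root_.KRR.cl X G) = θ (g (Groth.L12.Kvb.toKR X (_root_.KRR.cl X G)))
    rw [eO G hG, hg G hG, hθ _ (Groth.L29.LocFree.pullback (i ≫ j) hG)]
    exact Groth.L03.Euler.euler_iso (Groth.L00.Tensor.tensorUnitLeft _)
  rw [key]
  change 0 ≤ θ (g (Groth.L12.Kvb.toKR X a))
  rw [ha, Groth.L12.KRR.pull_gamma hKZ hKX hg]
  obtain ⟨Q, hQ'⟩ := Groth.L12.KRR.exists_pullHom hKZ hKX hg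
  rw [← hQ', map_sub, map_natCast, hQ', hg E hEv]
  haveI : (Scheme.Modules.pullback i).IsLeftAdjoint :=
    (Scheme.Modules.pullbackPushforwardAdjunction i).isLeftAdjoint
  let qZ : FlatMod.freeMod Z N ⟶ (Scheme.Modules.pullback (i ≫ j)).obj E :=
    (Groth.L29.LocFree.pullbackFreeIso i N).inv ≫ (Scheme.Modules.pullback i).map q ≫
      ((Scheme.Modules.pullbackComp i j).app E).hom
  haveI : Epi qZ := by infer_instance
  exact chernTop_nonneg k hKZ hθ hLZ hdZ (Groth.L18.MapEpi.isFinLocFreeOfRank_pullback (i ≫ j) hE) qZ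

/-- `χ(N ⊗ γ^d(E - (d+1))) ≥ 0`. -/
theorem pairNonneg {L : W.Modules} (hL : CohB1.IsAmple L) {d : ℕ} (hd : topologicalKrullDim W ≤ (d : WithBot ℕ∞))
    (j : W ⟶ X) {E : X.Modules} (hE : FlatMod.IsFinLocFreeOfRank (d + 1) E) {Nn : ℕ}
    (q : FlatMod.freeMod W Nn ⟶ (Scheme.Modules.pullback j).obj E) [Epi q] (a : SGA6.Kvb X)
    (ha : Groth.L12.Kvb.toKR X a =
      gamma d (Groth.L12.Kvb.toKR X (_root_.KRR.cl X E) - ((d + 1 : ℕ) : Groth.L12.Kvb.KR X)))
    {N : W.Modules} (hN : Coh.IsCoh N) : PairNonneg k j a N := by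
  rcases d with - | d
  · intro ψ hψ
    rw [Groth.L08.Lambda.gamma_zero] at ha
    have h1 : a = _root_.KRR.cl X (Coh.structureModule X) :=
      (Groth.L12.Kvb.isModel (X := X)).bijective.1 (ha.trans (Groth.L12.Kvb.isModel (X := X)).map_one.symm)
    rw [h1, hψ _ Groth.L12.Kvb.isFinLocFree_O]
    have h := Groth.L22.Nef.altT_nonneg_proper (k := k) (L := fun _ : Fin 0 => L) (fun i => i.elim0) hN
      ((topologicalKrullDim_subspace_le W (CohB1.support N)).trans hd)
    change 0 ≤ Groth.L22.Inter.alt (Groth.L03.Euler.twEuler k (fun _ : Fin 0 => L) N) at h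
    simp only [Groth.L22.Inter.alt_apply, Fintype.sum_unique, Groth.L22.Inter.sgn, Finset.univ_eq_empty,
      Finset.prod_empty, one_mul, Groth.L03.Euler.twEuler, Int.cast_nonneg_iff] at h
    exact le_of_le_of_eq h (Groth.L03.Euler.euler_iso
      (tensorIso (Iso.refl N) (Groth.L29.LocFree.pullbackUnitIso j).symm))
  suffices h : Coh.IsCoh N → PairNonneg k j a N from h hN
  refine Groth.L16.Devissage.devissage_ideals (fun M => Coh.IsCoh M → PairNonneg k j a M) ?_ ?_ ?_ ?_ hN
  · rintro A B ⟨e⟩ h hB ψ hψ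
    exact h (Groth.L16.CohSupport.isCoh_of_iso e.symm hB) ψ fun G hG =>
      (hψ G hG).trans (Groth.L03.Euler.euler_iso (tensorIso e.symm (Iso.refl _)))
  · intro M hM _ ψ hψ
    have : ψ = 0 := Groth.L29.KSub.hom_ext fun G hG => by
      refine (hψ G hG).trans (Groth.L03.Euler.euler_of_isZero ?_)
      haveI : (tensorLeftF ((Scheme.Modules.pullback j).obj G)).Additive :=
        Functor.additive_of_iso (Groth.L22.PDual.biIso _).symm
      exact ((tensorLeftF ((Scheme.Modules.pullback j).obj G)).map_isZero hM).of_iso (tensorComm _ _)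
    rw [this, AddMonoidHom.zero_apply]
  · intro S hS h1 h2 h3 p1 p3 _ ψ hψ
    obtain ⟨ψ₁, e₁⟩ := exists_pairing k j h1
    obtain ⟨ψ₃, e₃⟩ := exists_pairing k j h3
    have : ψ = ψ₁ + ψ₃ := Groth.L29.KSub.hom_ext fun G hG => by
      change ψ (_root_.KRR.cl X G) = ψ₁ (_root_.KRR.cl X G) + ψ₃ (_root_.KRR.cl X G)
      rw [hψ G hG, e₁ G hG, e₃ G hG]
      have hp := Groth.L29.LocFree.pullback j hG
      obtain ⟨w, h⟩ := shortExact_tensor_flat (Groth.L29.DC.isFlat_of_isFinLocFree hp) hS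
      have hc : ∀ M : W.Modules, Coh.IsCoh M → Coh.IsCoh (CohB1.tensorMod ((Scheme.Modules.pullback j).obj G) M) :=
        fun M hM => Groth.L15.Ref.isCoh_tensorMod (Groth.L16.NegPow.isCoh_of_isFinLocFree hp) hM
      rw [Groth.L03.Euler.euler_iso (tensorComm S.X₁ _), Groth.L03.Euler.euler_iso (tensorComm S.X₂ _),
        Groth.L03.Euler.euler_iso (tensorComm S.X₃ _)]
      exact Groth.L03.Euler.euler_add (k := k) h (hc _ h1) (hc _ h2) (hc _ h3)
    rw [this, AddMonoidHom.add_apply]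
    exact add_nonneg (p1 h1 ψ₁ e₁) (p3 h3 ψ₃ e₃)
  · intro Z i _ _ I ι hι hIq _
    haveI := hι
    haveI := hIq
    exact pairNonneg_integral k hL hd j hE q a ha i ι

end Groth.L12.IntSh.Pos
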