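import Groth.Agent.L22.Nef.Proper
import Groth.Agent.L22.Nef.Bridge
import Groth.Agent.L18.AmpleOps

/-!
# Generated invertible modules are nef
-/

set_option autoImplicit false
set_option maxHeartbeats 400000
set_option linter.style.haveILetI false
set_option backward.isDefEq.respectTransparency false

universe u

open CategoryTheory CategoryTheory.Limits AlgebraicGeometry

noncomputable section

namespace Groth.L12.IntSh.Pos

open Groth.L22.Inter (altT pt pt_facts)
open Groth.L22.Nef (IsNef)

variable (k : Type u) [Field k] {X : Scheme.{u}} [X.Over (Spec (CommRingCat.of k))]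
  [IsProper (X ↘ Spec (CommRingCat.of k))]

/-- An invertible module with a generating section at every point is nef. -/
theorem isNef_of_gen {A L : X.Modules} (hA : CohB1.IsAmple A) (hL : PicF.IsInvertible L)
    (hgen : ∀ x : X, ∃ s : Coh.structureModule X ⟶ L, x ∈ CohB1.genLocus L s) : IsNef k L := by
  refine ⟨hL, fun y hy => ?_⟩
  haveI := Groth.L21.RR.isNoetherian_of_proper (X := X) k
  have hamp : ∀ ν : ℕ, CohB1.IsAmple (CohB1.tensorMod A (CohB1.tensorPow L ν)) := fun ν => by
    refine Groth.L18.Ample.isAmple_tensor_of_gen hA (Groth.L18.Ample.isInvertible_tensorPow hL ν) fun x => ?_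
    obtain ⟨s, hx⟩ := hgen x
    obtain ⟨n, s', hs'⟩ : ∃ (n : ℕ) (s' : Coh.structureModule X ⟶ CohB1.tensorPow (CohB1.tensorPow L ν) (n + 1)),
        x ∈ CohB1.genLocus _ s' := by
      rcases ν with - | ν
      · refine ⟨0, Groth.L18.Ample.pw (𝟙 (Coh.structureModule X)) (0 + 1), ?_⟩
        rw [Groth.L18.Ample.genLocus_pw_succ (Groth.L18.Ample.isInvertible_tensorPow hL 0)]
        exact (Groth.L18.Ample.genLocus_id (X := X)).ge trivial
      · refine ⟨0, Groth.L18.Ample.pw (Groth.L18.Ample.pw s (ν + 1)) (0 + 1), ?_⟩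
        rw [Groth.L18.Ample.genLocus_pw_succ (Groth.L18.Ample.isInvertible_tensorPow hL _),
          Groth.L18.Ample.genLocus_pw_succ hL]
        exact hx
    exact ⟨n, s', hs'⟩
  by_contra hneg
  rw [not_le] at hneg
  let F := ClSub.quotMod (pt y)
  let dA := altT k (fun _ : Fin 1 => A) F
  let dL := altT k (fun _ : Fin 1 => L) F
  obtain ⟨n, hn⟩ := exists_nat_gt (dA / -dL)
  have hd : topologicalKrullDim (CohB1.support F) ≤ (1 : ℕ) :=
    (Groth.L03.Euler.topologicalKrullDim_set_mono (pt_facts y).2.1).trans hy.le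
  have hup : ∀ B : X.Modules, Function.update (fun _ : Fin 1 => A) 0 B = fun _ => B := fun B => by
    funext j
    rw [Subsingleton.elim j 0, Function.update_self]
  have hadd := Groth.L22.Nef.altT_update_pow_tensor k (L := fun _ : Fin 1 => A) (fun _ => hA.1) 0 hA.1 hL
    (pt_facts y).1 hd (0 + 1) (n + 1)
  rw [hup, hup, hup] at hadd
  have hamp' : CohB1.IsAmple (CohB1.tensorMod (CohB1.tensorPow A (0 + 1)) (CohB1.tensorPow L (n + 1))) :=
    Groth.L18.Ample.isAmple_of_iso (Groth.L00.Tensor.tensorIso (Groth.L00.Tensor.tensorUnitLeft A).symm (Iso.refl _))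
      (hamp (n + 1))
  have hpos := (IsNef.of_isAmple (k := k) hamp').2 y hy
  rw [hadd] at hpos
  rw [div_lt_iff₀ (neg_pos.2 hneg)] at hn
  simp only [Nat.cast_add, Nat.cast_one, zero_add, one_mul] at hpos
  simp only [dA, F] at hn
  linarith

end Groth.L12.IntSh.Pos
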