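import Groth.Agent.L08.Lambda.Pos
import Groth.Agent.L08.Lambda.Gamma

/-!
# Inverting a Segre relation modulo the gamma filtration
-/

set_option autoImplicit false
set_option maxHeartbeats 400000

universe v

open LambdaRing Finset

namespace Groth.L12.IntSh.Pos

open Groth.L08.Lambda (gamma_zero prod_mem_gammaFiltration gammaFiltration_antitone mul_mem_gammaFiltration)

variable {K : Type v} [CommRing K] [LambdaOps K] (P : PosStructure K)

theorem gamma_mem {y : K} (hy : P.aug y = 0) (i : ℕ) : gamma i y ∈ gammaFiltration P i := by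
  simpa using prod_mem_gammaFiltration P [(i, y)] (by simpa using hy) i (by simp)

/-- If `Σ_k γ^{m-k}(w) T(i+k) = 0` and `T l = 1` below `m`, then `T(m-1+n) ≡ γ^n(-w)` modulo `F^{n+1}`. -/
theorem segre_inv {w : K} (hw : P.aug w = 0) {m : ℕ} (hm : 1 ≤ m) (T : ℕ → K)
    (hlow : ∀ l, l < m → T l = 1) (hbig : ∀ j, m < j → gamma j w = 0)
    (hrel : ∀ i, ∑ k ∈ range (m + 1), gamma (m - k) w * T (i + k) = 0) (n : ℕ) :
    T (m - 1 + n) - gamma n (-w) ∈ gammaFiltration P (n + 1) := by
  induction n using Nat.strong_induction_on with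
  | _ n ih =>
    rcases n with - | n
    · rw [Nat.add_zero, hlow _ (by omega), gamma_zero, sub_self]
      exact zero_mem _
    have hinv : ∑ j ∈ range (n + 1 + 1), gamma j w * gamma (n + 1 - j) (-w) = 0 := by
      rw [← Groth.L08.Lambda.gamma_add, add_neg_cancel, ← Groth.L08.Lambda.coeff_gammaSeries,
        Groth.L08.Lambda.gammaSeries_zero]
      simp
    have hr : ∑ j ∈ range (m + 1), gamma j w * T (n + (m - j)) = 0 := by
      rw [← hrel n, ← sum_range_reflect (fun k => gamma (m - k) w * T (n + k)) (m + 1)]
      refine sum_congr rfl fun j hj => ?_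
      simp only [mem_range] at hj
      rw [show m + 1 - 1 - j = m - j by omega, show m - (m - j) = j by omega]
    -- compare the two sums on a common range
    set R := m + 1 + (n + 1 + 1) with hR
    have e1 : ∑ j ∈ range R, (if j ≤ m then gamma j w * T (n + (m - j)) else 0) = 0 := by
      rw [← sum_filter]
      exact (sum_congr (by ext j; simp; omega) fun _ _ => rfl).trans hr
    have e2 : ∑ j ∈ range R, (if j ≤ n + 1 then gamma j w * gamma (n + 1 - j) (-w) else 0) = 0 := by
      rw [← sum_filter]
      exact (sum_congr (by ext j; simp; omega) fun _ _ => rfl).trans hinv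
    have hsum : ∑ j ∈ range R, ((if j ≤ m then gamma j w * T (n + (m - j)) else 0) -
        (if j ≤ n + 1 then gamma j w * gamma (n + 1 - j) (-w) else 0)) = 0 := by
      rw [sum_sub_distrib, e1, e2, sub_zero]
    rw [← add_sum_erase _ _ (mem_range.2 (by omega) : 0 ∈ range R), if_pos (Nat.zero_le _),
      if_pos (Nat.zero_le _), gamma_zero, one_mul, one_mul] at hsum
    rw [Nat.sub_zero, Nat.sub_zero] at hsum
    rw [show m - 1 + (n + 1) = n + m by omega, eq_neg_of_add_eq_zero_left hsum]
    refine neg_mem (sum_mem fun j hj => ?_)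
    obtain ⟨hj0, -⟩ := mem_erase.1 hj
    have hj1 : 1 ≤ j := Nat.one_le_iff_ne_zero.2 hj0
    rcases Nat.lt_or_ge (n + 1) j with hjn | hjn
    · rw [if_neg (show ¬ j ≤ n + 1 by omega), sub_zero]
      split_ifs with hjm
      · rw [hlow _ (by omega), mul_one]
        exact gammaFiltration_antitone P (by omega) (gamma_mem P hw j)
      · exact zero_mem _
    · rw [if_pos hjn]
      by_cases hjm : j ≤ m
      · rw [if_pos hjm, ← mul_sub, show n + (m - j) = m - 1 + (n + 1 - j) by omega]
        exact gammaFiltration_antitone P (by omega)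
          (mul_mem_gammaFiltration P (gamma_mem P hw j) (ih (n + 1 - j) (by omega)))
      · rw [if_neg hjm, hbig j (by omega), zero_mul, sub_zero]
        exact zero_mem _

end Groth.L12.IntSh.Pos
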