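import Groth.Agent.L12.IntSh.Pos.Alt
import Groth.Agent.L12.IntSh.Pos.Nef
import Groth.Agent.L12.IntSh.Pos.Segre
import Groth.Agent.L12.KBun.Segre
import Groth.Agent.L12.KBun.Exist
import Groth.Agent.L12.KBun.Dim
import Groth.Agent.L03.ShStab.Rank2Kernel
import Groth.Agent.L18.RelAmpleCrit
import Groth.Agent.L18.AmpleGG
import Groth.Agent.L18.Grass.QuotChart
import Groth.Agent.L08.Cube.Inverse
import Groth.Agent.L26.Pic0.Basic

/-!
# The top Chern number of a generated bundle on an integral proper scheme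
-/

set_option autoImplicit false
set_option maxHeartbeats 800000
set_option linter.style.haveILetI false
set_option linter.unusedSectionVars false
set_option backward.isDefEq.respectTransparency false
set_option backward.isDefEq.respectTransparency.types false

universe u

open CategoryTheory CategoryTheory.Limits AlgebraicGeometry LambdaRing

attribute [local instance] HasDerivedCategory.standard
attribute [local irreducible] Curv2.euler

noncomputable section

namespace Groth.L12.IntSh.Pos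

variable (k : Type u) [Field k]

theorem cl_freeMod (X : Scheme.{u}) [ConnectedSpace X] {K : Type (u + 1)} [CommRing K] [LambdaOps K] {PK : PosStructure K}
    {φ : SGA6.Kvb X →+ K} (hK : _root_.KRR.IsModel X K PK φ) : ∀ n : ℕ, φ (_root_.KRR.cl X (FlatMod.freeMod X n)) = (n : K)
  | 0 => by
    rw [show _root_.KRR.cl X (FlatMod.freeMod X 0) = 0 from Groth.L29.KSub.clSub_zero (_root_.KRR.vbP X)
      (IsInitial.ofUniqueHom (fun _ => Sigma.desc fun i => i.elim0) fun _ _ => Sigma.hom_ext _ _ fun i => i.elim0).isZero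
      (Groth.L29.LocFree.of_isZero (IsInitial.ofUniqueHom (fun _ => Sigma.desc fun i => i.elim0)
        fun _ _ => Sigma.hom_ext _ _ fun i => i.elim0).isZero), map_zero, Nat.cast_zero]
  | n + 1 => by
    have hv : ∀ m, FlatMod.IsFinLocFree (FlatMod.freeMod X m) := fun m =>
      Groth.L18.KRRAmple.isFinLocFree_of_rank (Groth.L18.QuotChart.isFinLocFreeOfRank_free X m)
    have h := Groth.L12.Kvb.cl_biprod (hv n) (hv 1)
    rw [Groth.L12.Kvb.cl_iso (Groth.L29.LocFree.freeBiprodIso X n 1).symm (hv (n + 1)), h, map_add, cl_freeMod X hK n,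
      Groth.L12.Kvb.cl_iso (coproductUniqueIso fun _ : Fin 1 => Coh.structureModule X) (hv 1), hK.map_one, Nat.cast_succ]

theorem nonempty_dual_congr {X : Scheme.{u}} {M N : X.Modules} (e : M ≅ N) :
    Nonempty (RefHull.dual M ≅ RefHull.dual N) := by
  haveI := Groth.L17.Duality.hasSheafHom M
  haveI := Groth.L17.Duality.hasSheafHom N
  obtain ⟨a⟩ := Groth.L12.DualVb.nonempty_dual_iso M
  obtain ⟨b⟩ := Groth.L12.DualVb.nonempty_dual_iso N
  exact ⟨a.symm ≪≫ (Groth.L17.Duality.homCongr e).app _ ≪≫ b⟩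

theorem nonempty_iso_freeMod_of_point {X : Scheme.{u}} [Subsingleton X] [Nonempty X] {M : X.Modules} {N : ℕ}
    (hM : FlatMod.IsFinLocFreeOfRank N M) : Nonempty (M ≅ FlatMod.freeMod X N) := by
  obtain ⟨x⟩ := (inferInstance : Nonempty X)
  obtain ⟨U, hU, ⟨e⟩⟩ := hM x
  haveI : Surjective U.ι := ⟨fun y => ⟨⟨x, hU⟩, Subsingleton.elim _ y⟩⟩
  haveI : Epi U.ι.base := (TopCat.epi_iff_surjective _).2 U.ι.surjective
  haveI : IsIso U.ι := IsOpenImmersion.isIso U.ι
  exact ⟨((Scheme.Modules.pullbackId X).app M).symm ≪≫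
    (Scheme.Modules.pullbackCongr (IsIso.inv_hom_id U.ι).symm).app M ≪≫
    ((Scheme.Modules.pullbackComp (inv U.ι) U.ι).app M).symm ≪≫
    (Scheme.Modules.pullback (inv U.ι)).mapIso (((Scheme.Modules.restrictFunctorIsoPullback U.ι).app M).symm ≪≫ e) ≪≫
    Groth.L29.LocFree.pullbackFreeIso (inv U.ι) N⟩

theorem chernTop_nonneg {Z : Scheme.{u}} [IsIntegral Z] [IsNoetherian Z] [ConnectedSpace Z]
    [Z.Over (Spec (CommRingCat.of k))] [IsProper (Z ↘ Spec (CommRingCat.of k))]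
    {KZ : Type (u + 1)} [CommRing KZ] [LambdaOps KZ] {PZ : PosStructure KZ} {φZ : SGA6.Kvb Z →+ KZ}
    (hKZ : _root_.KRR.IsModel Z KZ PZ φZ) {θ : KZ →+ ℤ}
    (hθ : ∀ M : Z.Modules, FlatMod.IsFinLocFree M → θ (φZ (_root_.KRR.cl Z M)) = Curv2.euler k Z M)
    {A : Z.Modules} (hA : CohB1.IsAmple A) {d : ℕ} (hd : topologicalKrullDim Z ≤ (d : WithBot ℕ∞))
    {E : Z.Modules} (hE : FlatMod.IsFinLocFreeOfRank (d + 1) E) {N : ℕ} (q : FlatMod.freeMod Z N ⟶ E) [Epi q] :
    0 ≤ θ (gamma d (φZ (_root_.KRR.cl Z E) - ((d + 1 : ℕ) : KZ))) := by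
  have hbot := Groth.L12.KNil.gammaFiltration_eq_bot hKZ hA hd
  have hEv := Groth.L18.KRRAmple.isFinLocFree_of_rank hE
  have hfr := Groth.L18.QuotChart.isFinLocFreeOfRank_free Z N
  have hfv := Groth.L18.KRRAmple.isFinLocFree_of_rank hfr
  let S : ShortComplex Z.Modules := ShortComplex.mk (kernel.ι q) q (kernel.condition q)
  have hS : S.ShortExact := { exact := ShortComplex.exact_kernel _ }
  have hKv : FlatMod.IsFinLocFree (kernel q) := Groth.L29.DC.isFinLocFree_kernel_of_epi q hfv hEv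
  obtain ⟨m, hKm⟩ := Groth.L18.KRRAmple.exists_rank hKv
  have hsum : φZ (_root_.KRR.cl Z (kernel q)) + φZ (_root_.KRR.cl Z E) = (N : KZ) := by
    rw [← map_add, ← Groth.L29.KSub.clSub_shortExact (_root_.KRR.vbP Z) hS hKv hfv hEv]
    exact cl_freeMod Z hKZ N
  have hN : (N : ℤ) = m + (d + 1 : ℕ) := by
    have := congrArg PZ.aug hsum
    rw [map_add, hKZ.aug_cl _ _ hKm, hKZ.aug_cl _ _ hE, map_natCast] at this
    exact this.symm
  set w := φZ (_root_.KRR.cl Z (kernel q)) - (m : KZ)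
  have hneg : φZ (_root_.KRR.cl Z E) - ((d + 1 : ℕ) : KZ) = -w := by
    have : ((N : ℤ) : KZ) = ((m + (d + 1 : ℕ) : ℤ) : KZ) := by rw [hN]
    push_cast at this ⊢
    rw [this] at hsum
    simp only [w]
    linear_combination hsum
  rw [hneg]
  have hw : PZ.aug w = 0 := by rw [map_sub, hKZ.aug_cl _ _ hKm, map_natCast, sub_self]
  have hbig : ∀ j, m < j → gamma j w = 0 := fun j hj =>
    Groth.L08.Lambda.gamma_rank_eq_zero
      (fun i hi => Groth.L22.Lambda.lam_eq_zero_of_isLine PZ (Groth.L22.Lambda.isLine_one PZ) hi)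
      (fun i hi => by
        rcases Nat.eq_zero_or_pos m with rfl | hm0
        · rw [show _root_.KRR.cl Z (kernel q) = 0 from Groth.L29.KSub.clSub_zero (_root_.KRR.vbP Z)
            (Groth.L12.Kvb.isZero_of_rank_zero hKm) hKv, map_zero]
          obtain ⟨i, rfl⟩ : ∃ l, i = l + 1 := ⟨i - 1, by omega⟩
          exact Groth.L22.Lambda.lam_succ_zero i
        · exact PZ.lam_eq_zero _ ((hKZ.mem_pos_iff _).2 ⟨m, _, hm0, hKm, rfl⟩) _
            (by rw [hKZ.aug_cl m _ hKm]; exact_mod_cast hi)) hj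
  rcases Nat.eq_zero_or_pos d with rfl | hd0
  · rw [Groth.L08.Lambda.gamma_zero]
    have h := nonneg_delta_pow k hKZ hθ (L := Coh.structureModule Z) (M := Coh.structureModule Z)
      Groth.L22.Nef.IsNef.structureModule (Groth.L22.GenRank.isInvertible_of_rank_one Groth.L12.Kvb.isRankOne_O)
      ⟨Groth.L00.Tensor.tensorUnitLeft _⟩ hd hbot
    rwa [pow_zero] at h
  rcases Nat.eq_zero_or_pos m with rfl | hm
  · have hw0 : w = 0 := by
      simp only [w, show _root_.KRR.cl Z (kernel q) = 0 from Groth.L29.KSub.clSub_zero (_root_.KRR.vbP Z)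
        (Groth.L12.Kvb.isZero_of_rank_zero hKm) hKv, map_zero, Nat.cast_zero, sub_zero]
    rw [hw0, neg_zero, ← Groth.L08.Lambda.coeff_gammaSeries, Groth.L08.Lambda.gammaSeries_zero,
      PowerSeries.coeff_one, if_neg (Nat.pos_iff_ne_zero.1 hd0), map_zero]
  -- the dual of the kernel, a quotient of a free module
  obtain ⟨m, rfl⟩ : ∃ l, m = l + 1 := ⟨m - 1, by omega⟩
  let G := RefHull.dual (kernel q)
  have hG : FlatMod.IsFinLocFreeOfRank (m + 1) G := Groth.L12.KBun.rank_dual hKm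
  have hGv := Groth.L18.KRRAmple.isFinLocFree_of_rank hG
  obtain ⟨P, π, O1, qP, hPB, hPn, hPc⟩ := Groth.L12.KBun.exists_projBundle Z hG
  haveI := hPn; haveI := hPc
  obtain ⟨At⟩ := Groth.L12.KBun.exists_atlas hPB hG
  haveI := At.isProper
  haveI := Groth.L17.PushQCoh.hasInjectiveResolutions P
  haveI : Z.IsSeparated := ⟨by
    rw [Subsingleton.elim (terminal.from Z) ((Z ↘ Spec (CommRingCat.of k)) ≫ terminal.from _)]
    infer_instance⟩
  letI : P.Over (Spec (CommRingCat.of k)) := ⟨π ≫ Z ↘ Spec (CommRingCat.of k)⟩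
  haveI : IsProper (P ↘ Spec (CommRingCat.of k)) :=
    inferInstanceAs (IsProper (π ≫ Z ↘ Spec (CommRingCat.of k)))
  have hO := Groth.L22.GenRank.isInvertible_of_rank_one hPB.invertible
  obtain ⟨Om, hOm, hOOm⟩ := Groth.L08.Cube.exists_inverse hO
  have hKP := Groth.L12.Kvb.isModel (X := P)
  obtain ⟨g, hg⟩ := Groth.L12.KRR.exists_isPull π (φX := Groth.L12.Kvb.toKR P) hKZ.bijective
  obtain ⟨⟨e⟩⟩ := (show Nonempty (Nonempty (CohB1.tensorMod O1 Om ≅ Coh.structureModule P)) from ⟨hOOm⟩)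
  have D : Groth.L12.KBun.Data π qP Om m PZ φZ (Groth.L12.Kvb.posStructure (X := P)) (Groth.L12.Kvb.toKR P) g :=
    ⟨hPB, hG, hKZ, hKP, hg, hOm, ⟨Groth.L00.Tensor.tensorComm _ _ ≪≫ e⟩⟩
  haveI := Groth.L29.DC.PCQCoh.isQCoh_of_isFinLocFree D.vbE
  haveI := Groth.L29.DC.PCQCoh.isQCoh_of_isFinLocFree D.vbW
  haveI := Groth.L29.DC.PCQCoh.isQCoh_of_isFinLocFree (Groth.L18.KRRAmple.isFinLocFree_of_rank hPB.invertible)
  obtain ⟨gF, hT⟩ := D.exists_twF At
  -- the classes
  have hdd : φZ (_root_.KRR.cl Z (RefHull.dual G)) = φZ (_root_.KRR.cl Z (kernel q)) := by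
    haveI : IsIso (RefHull.bidualMap (kernel q)) :=
      Groth.L03.ShStab.Rank2.isReflexive_of_rank (Groth.L16.NegPow.isCoh_of_isFinLocFree hKv) hKm
    exact (congrArg φZ (Groth.L12.Kvb.cl_iso (asIso (RefHull.bidualMap (kernel q))) hKv)).symm
  set u := Groth.L12.Kvb.toKR P (_root_.KRR.cl P Om)
  have hrel : ∀ i, ∑ l ∈ Finset.range (m + 1 + 1), gamma (m + 1 - l) w * gF ((1 - u) ^ (i + l)) = 0 := fun i => by
    have h := D.segre At hT i
    rwa [hdd] at h
  have hlow : ∀ l, l < m + 1 → gF ((1 - u) ^ l) = 1 := fun l hl => D.pushF_delta_pow_lt At hT (Nat.le_of_lt_succ hl)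
  have hmem := segre_inv PZ hw (Nat.succ_pos m) (fun l => gF ((1 - u) ^ l)) hlow hbig hrel d
  rw [hbot, AddSubgroup.mem_bot, sub_eq_zero] at hmem
  rw [← hmem]
  -- positivity on the bundle
  obtain ⟨θ₀, hθ₀⟩ := exists_pairing k (𝟙 P) (Groth.L16.CohClosedPush.isCoh_structure (X := P))
  let θP : Groth.L12.Kvb.KR P →+ ℤ := θ₀.comp (AddEquiv.ofBijective _ hKP.bijective).symm.toAddMonoidHom
  have hθP : ∀ M : P.Modules, FlatMod.IsFinLocFree M →
      θP (Groth.L12.Kvb.toKR P (_root_.KRR.cl P M)) = Curv2.euler k P M := fun M hM => by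
    refine ((congrArg θ₀ ((AddEquiv.ofBijective _ hKP.bijective).symm_apply_apply _)).trans (hθ₀ M hM)).trans ?_
    exact Groth.L03.Euler.euler_iso (Groth.L00.Tensor.tensorUnitLeft _ ≪≫ (Scheme.Modules.pullbackId P).app M)
  rw [← euler_pushF k rfl D At hT hθ hθP]
  obtain ⟨AP, hAP⟩ := At.exists_isAmple hO hA
  have hdim : topologicalKrullDim P ≤ ((m + 1 - 1 + d : ℕ) : WithBot ℕ∞) := by
    refine At.topologicalKrullDim_le.trans ((add_le_add hd le_rfl).trans (le_of_eq ?_))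
    push_cast
    rw [add_comm]
  have hnef : Groth.L22.Nef.IsNef k O1 := by
    obtain ⟨T, hT, -, ⟨t₂⟩, ⟨t₃⟩⟩ := Groth.L12.DualVb.exists_dual_shortExact hS hKv hfv hEv
    haveI := hT.epi_g
    have hfd : FlatMod.IsFinLocFreeOfRank N (RefHull.dual (FlatMod.freeMod (Spec (CommRingCat.of k)) N)) :=
      Groth.L12.KBun.rank_dual (Groth.L18.QuotChart.isFinLocFreeOfRank_free _ N)
    haveI : Subsingleton (Spec (CommRingCat.of k)) := inferInstanceAs (Subsingleton (PrimeSpectrum k))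
    haveI : Nonempty (Spec (CommRingCat.of k)) := inferInstanceAs (Nonempty (PrimeSpectrum k))
    obtain ⟨a⟩ := nonempty_iso_freeMod_of_point hfd
    let f := Z ↘ Spec (CommRingCat.of k)
    obtain ⟨b⟩ := Groth.L12.DualVb.nonempty_dual_pullback f
      (Groth.L18.KRRAmple.isFinLocFree_of_rank (Groth.L18.QuotChart.isFinLocFreeOfRank_free (Spec (CommRingCat.of k)) N))
    obtain ⟨c⟩ := nonempty_dual_congr (Groth.L29.LocFree.pullbackFreeIso f N)
    haveI : Epi qP := hPB.epi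
    let p : FlatMod.freeMod Z N ⟶ G :=
      ((Groth.L29.LocFree.pullbackFreeIso f N).symm ≪≫ (Scheme.Modules.pullback f).mapIso a.symm ≪≫ b.symm ≪≫ c ≪≫
        t₂.symm).hom ≫ T.g ≫ t₃.hom
    haveI : Epi p := by infer_instance
    haveI : (Scheme.Modules.pullback π).IsLeftAdjoint :=
      (Scheme.Modules.pullbackPushforwardAdjunction π).isLeftAdjoint
    let p' : FlatMod.freeMod P N ⟶ O1 :=
      (Groth.L29.LocFree.pullbackFreeIso π N).inv ≫ (Scheme.Modules.pullback π).map p ≫ qP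
    haveI : Epi p' := by infer_instance
    exact isNef_of_gen k hAP hO fun x =>
      Groth.L18.Ample.exists_genLocus_mem_of_gg hO (Groth.L18.Ample.isGloballyGenerated_of_freeMod p') x
  exact nonneg_delta_pow k hKP hθP hnef hOm hOOm hdim (Groth.L12.KNil.gammaFiltration_eq_bot hKP hAP hdim)

end Groth.L12.IntSh.Pos
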